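import Cfsg.Agent.H54.PQ.Defs
import Cfsg.Agent.H139.Cusp.Lift
import Cfsg.Agent.H139.Cusp.Adams

/-!
# S4981: the V lemma (helper877, for helper54)

`v_mult_of` : the multiplicities of the eigenvalues of `x ^ k` and `x' ^ k` agree modulo `p`, from the congruence for the
generalized character `g ↦ ∑ θ (eigenvalues of ρ (g ^ k))`.
-/

set_option autoImplicit false

open Polynomial Cfsg Subgroup

namespace Cfsg.Agent.H877.PQ

open Cfsg.Agent.H54.PQ Cfsg.Agent.H139.Cusp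

universe u v w

section roots

variable {K : Type w} [Field K] {V : Type w} [AddCommGroup V] [Module K V] [FiniteDimensional K V]

theorem pow_of_mem_roots {e : V →ₗ[K] V} {p : ℕ} (h : e ^ p = 1) {ν : K} (hν : ν ∈ e.charpoly.roots) : ν ^ p = 1 := by
  have h1 : Module.End.HasEigenvalue e ν := by
    rw [Module.End.hasEigenvalue_iff_isRoot_charpoly]
    exact Polynomial.isRoot_of_mem_roots hν
  obtain ⟨v, hv⟩ := h1.exists_hasEigenvector
  have h2 : (e ^ p) v = ν ^ p • v := hv.pow_apply p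
  rw [h, Module.End.one_apply] at h2
  have h3 : (1 - ν ^ p) • v = 0 := by rw [sub_smul, one_smul, ← h2, sub_self]
  rcases smul_eq_zero.1 h3 with h4 | h4
  · exact (sub_eq_zero.1 h4).symm
  · exact absurd h4 hv.2

theorem sum_roots [DecidableEq K] {p : ℕ} [hp : Fact p.Prime] (θ : K →*₀ ℂ) {μ : K} (hμ : IsPrimitiveRoot μ p)
    {R : Multiset K} (hR : ∀ ν ∈ R, ν ^ p = 1) :
    (R.map θ).sum = ∑ i : ZMod p, ((R.count (μ ^ i.val) : ℤ) : ℂ) * θ μ ^ i.val := by
  have hinj : Function.Injective (fun i : ZMod p => μ ^ i.val) := by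
    intro i j h
    have h1 := hμ.pow_inj (ZMod.val_lt i) (ZMod.val_lt j) h
    exact ZMod.val_injective p h1
  rw [Finset.sum_multiset_map_count]
  have h1 : ∑ i : ZMod p, ((R.count (μ ^ i.val) : ℤ) : ℂ) * θ μ ^ i.val =
      ∑ a ∈ Finset.univ.image (fun i : ZMod p => μ ^ i.val), R.count a • θ a := by
    rw [Finset.sum_image (fun i _ j _ h => hinj h)]
    refine Finset.sum_congr rfl fun i _ => ?_
    rw [map_pow, nsmul_eq_mul, Int.cast_natCast]
  rw [h1]
  refine Finset.sum_subset ?_ ?_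
  · intro a ha
    rw [Multiset.mem_toFinset] at ha
    obtain ⟨i, hi, hia⟩ := hμ.eq_pow_of_pow_eq_one (hR a ha)
    rw [Finset.mem_image]
    refine ⟨(i : ZMod p), Finset.mem_univ _, ?_⟩
    show μ ^ (i : ZMod p).val = a
    rw [ZMod.val_natCast_of_lt hi, hia]
  · intro a _ ha
    rw [Multiset.mem_toFinset] at ha
    rw [Multiset.count_eq_zero_of_notMem ha, zero_smul]

end roots

/-- **The V lemma.** -/
theorem v_mult_of {p : ℕ} [hp : Fact p.Prime] {S : Type u} [Group S] {A : Subgroup (MulAut S)}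
    {S' : Type v} [Group S'] [Finite S'] (π : S' →* S) (hπ : Function.Surjective π) {k : ℕ}
    (hk : ∀ g : S', (g ^ k) ^ p = 1) (hker : ∀ z ∈ π.ker, z ∈ center S' ∧ z ^ k = 1)
    {K : Type w} [Field K] [DecidableEq K] (θ : K →*₀ ℂ) (hθ : Function.Injective θ) {V : Type w} [AddCommGroup V]
    [Module K V] [FiniteDimensional K V] (ρ : Representation K S' V) (hsp : ∀ g, (LinearMap.charpoly (ρ g)).Splits)
    (hAinv : ∀ a ∈ A, ∀ g h : S', g ^ p = 1 → h ^ p = 1 → π h = a (π g) →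
      (LinearMap.charpoly (ρ h)) = LinearMap.charpoly (ρ g))
    -- C1
    {y y' : S} (hC : ∀ β : S → ℂ, IsGeneralizedCharacter S β → (∀ a ∈ A, InvF a β) →
      ∃ z : AlgInt, β y - β y' = (p : ℂ) * (z : ℂ))
    -- C2
    (C2 : ∀ {ζ : ℂ}, IsPrimitiveRoot ζ p → ∀ {m m' : ZMod p → ℤ} {z : AlgInt},
      ∑ i, (m i : ℂ) * ζ ^ i.val - ∑ i, (m' i : ℂ) * ζ ^ i.val = (p : ℂ) * (z : ℂ) → (p : ℤ) ∣ m 0 - m' 0 →
        ∀ i : ZMod p, (p : ℤ) ∣ m i - m' i)
    -- C3
    (C3 : ∀ {β' : S' → ℂ}, IsGeneralizedCharacter S' β' → ∀ {β : S → ℂ}, (∀ g, β (π g) = β' g) →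
      IsGeneralizedCharacter S β)
    {x x' : S'} (hx : π x = y) (hx' : π x' = y')
    (h1 : (p : ℤ) ∣ ((LinearMap.charpoly (ρ (x ^ k))).roots.count 1 : ℤ) -
      ((LinearMap.charpoly (ρ (x' ^ k))).roots.count 1 : ℤ)) (μ : K) :
    (p : ℤ) ∣ ((LinearMap.charpoly (ρ (x ^ k))).roots.count μ : ℤ) -
      ((LinearMap.charpoly (ρ (x' ^ k))).roots.count μ : ℤ) := by
  -- the eigenvalues are `p`-th roots of unity
  have hpow : ∀ g : S', ∀ ν ∈ (LinearMap.charpoly (ρ (g ^ k))).roots, ν ^ p = 1 := by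
    intro g ν hν
    refine pow_of_mem_roots ?_ hν
    rw [← map_pow, hk, map_one]
  by_cases hμ1 : μ = 1
  · rw [hμ1]; exact h1
  by_cases hμp : μ ^ p = 1
  swap
  · have h2 : ∀ g : S', (LinearMap.charpoly (ρ (g ^ k))).roots.count μ = 0 := fun g =>
      Multiset.count_eq_zero_of_notMem fun h => hμp (hpow g μ h)
    rw [h2, h2, sub_self]
    exact dvd_zero _
  have hprim : IsPrimitiveRoot μ p := by
    have h2 : orderOf μ = p := orderOf_eq_prime hμp hμ1
    rw [← h2]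
    exact IsPrimitiveRoot.orderOf μ
  have hprim' : IsPrimitiveRoot (θ μ) p := hprim.map_of_injective (f := (θ : K →* ℂ)) hθ
  -- the generalized character of `S'`
  set β' : S' → ℂ := fun g => bl θ (ρ (g ^ k)) with hβ'
  have hβ'g : IsGeneralizedCharacter S' β' :=
    isGeneralizedCharacter_pow (lift_generalized θ hθ S' V ρ hsp) k
  set β : S → ℂ := fun s => β' (Function.surjInv hπ s) with hβ
  have hββ' : ∀ g, β (π g) = β' g := by
    intro g
    set g' := Function.surjInv hπ (π g) with hg'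
    have e1 : π g' = π g := Function.surjInv_eq hπ _
    have e2 : g⁻¹ * g' ∈ π.ker := by rw [MonoidHom.mem_ker, map_mul, map_inv, e1, inv_mul_cancel]
    obtain ⟨e3, e4⟩ := hker _ e2
    have e5 : g' ^ k = g ^ k := by
      have e6 : g' = g * (g⁻¹ * g') := by group
      have e7 : Commute g (g⁻¹ * g') := mem_center_iff.1 e3 g
      rw [e6, e7.mul_pow, e4, mul_one]
    show bl θ (ρ (g' ^ k)) = bl θ (ρ (g ^ k))
    rw [e5]
  have hβA : ∀ a ∈ A, InvF a β := by
    intro a ha s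
    obtain ⟨g, rfl⟩ := hπ s
    obtain ⟨h, hh⟩ := hπ (a (π g))
    rw [← hh, hββ', hββ']
    have e1 := hAinv a ha (g ^ k) (h ^ k) (hk g) (hk h) (by rw [map_pow, hh, map_pow, map_pow])
    show ((LinearMap.charpoly (ρ (h ^ k))).roots.map θ).sum = ((LinearMap.charpoly (ρ (g ^ k))).roots.map θ).sum
    rw [e1]
  obtain ⟨z, hz⟩ := hC β (C3 hβ'g hββ') hβA
  rw [← hx, ← hx', hββ', hββ'] at hz
  have e1 : ∀ g : S', β' g = ∑ i : ZMod p,
      (((LinearMap.charpoly (ρ (g ^ k))).roots.count (μ ^ i.val) : ℤ) : ℂ) * θ μ ^ i.val := fun g =>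
    sum_roots θ hprim (hpow g)
  rw [e1, e1] at hz
  have h2 := C2 hprim' (m := fun i => ((LinearMap.charpoly (ρ (x ^ k))).roots.count (μ ^ i.val) : ℤ))
    (m' := fun i => ((LinearMap.charpoly (ρ (x' ^ k))).roots.count (μ ^ i.val) : ℤ)) hz
    (by simpa only [ZMod.val_zero, pow_zero] using h1) 1
  have : Fact (1 < p) := ⟨hp.out.one_lt⟩
  simpa only [ZMod.val_one, pow_one] using h2

end Cfsg.Agent.H877.PQ
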